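import Mathlib
import Groth.Agent.Lib.Helper8.MvPSLocal

set_option autoImplicit false
set_option backward.isDefEq.respectTransparency.types false
set_option synthInstance.maxHeartbeats 400000
set_option maxHeartbeats 4000000
set_option linter.style.haveILetI false
set_option linter.unusedSectionVars false
set_option linter.unusedVariables false
set_option linter.unusedSimpArgs false
set_option linter.unnecessarySimpa false

universe u

namespace Groth.Agent.Helper2.PSDvr

open MvPowerSeries

section

variable (k : Type u) [Field k]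

instance : IsDomain (MvPowerSeries (Fin 1) k) := NoZeroDivisors.to_isDomain _

/-- The big algebraically closed field. -/
abbrev L : Type u := AlgebraicClosure (FractionRing (MvPowerSeries (Fin 1) k))

/-- The embedding of `k[[t₂]]` into `L`. -/
noncomputable def ι : MvPowerSeries (Fin 1) k →+* L k :=
  (algebraMap (FractionRing (MvPowerSeries (Fin 1) k)) (L k)).comp
    (algebraMap (MvPowerSeries (Fin 1) k) (FractionRing (MvPowerSeries (Fin 1) k)))

lemma ι_injective : Function.Injective (ι k) := by
  unfold ι
  rw [RingHom.coe_comp]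
  exact (algebraMap (FractionRing (MvPowerSeries (Fin 1) k)) (L k)).injective.comp
    (IsFractionRing.injective _ _)

/-- The map `k[[t₁,t₂]] → L[[X]]`. -/
noncomputable def ψ : MvPowerSeries (Fin 2) k →+* PowerSeries (L k) :=
  (PowerSeries.map (ι k)).comp
    ((MvPowerSeries.finSuccEquiv k 1 : MvPowerSeries (Fin 2) k ≃ₐ[k] _) : _ →+* _)

lemma ψ_apply (F : MvPowerSeries (Fin 2) k) :
    ψ k F = PowerSeries.map (ι k) (MvPowerSeries.finSuccEquiv k 1 F) := rfl

lemma ψ_injective : Function.Injective (ψ k) := by
  intro F G h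
  rw [ψ_apply, ψ_apply] at h
  exact (MvPowerSeries.finSuccEquiv k 1).injective (PowerSeries.map_injective _ (ι_injective k) h)

lemma ψ_X : ψ k (X 0) = PowerSeries.X := by
  rw [ψ_apply, MvPowerSeries.finSuccEquiv_X_zero, PowerSeries.map_X]

lemma isUnit_ψ_iff (F : MvPowerSeries (Fin 2) k) :
    IsUnit (ψ k F) ↔ F ∉ Ideal.span {(X 0 : MvPowerSeries (Fin 2) k)} := by
  rw [PowerSeries.isUnit_iff_constantCoeff, isUnit_iff_ne_zero, Ideal.mem_span_singleton, ψ_apply,
    ← PowerSeries.coeff_zero_eq_constantCoeff_apply, PowerSeries.coeff_map]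
  constructor
  · intro h hdvd
    apply h
    obtain ⟨G, rfl⟩ := hdvd
    rw [map_mul, MvPowerSeries.finSuccEquiv_X_zero, PowerSeries.coeff_zero_eq_constantCoeff_apply,
      map_mul, PowerSeries.constantCoeff_X, zero_mul, map_zero]
  · intro h h0
    apply h
    have h1 : PowerSeries.constantCoeff (MvPowerSeries.finSuccEquiv k 1 F) = 0 := by
      apply ι_injective k
      rw [map_zero, ← PowerSeries.coeff_zero_eq_constantCoeff_apply]
      exact h0
    obtain ⟨G, hG⟩ := PowerSeries.X_dvd_iff.mpr h1
    refine ⟨(MvPowerSeries.finSuccEquiv k 1).symm G, ?_⟩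
    apply (MvPowerSeries.finSuccEquiv k 1).injective
    rw [map_mul, AlgEquiv.apply_symm_apply, MvPowerSeries.finSuccEquiv_X_zero, hG]

end

theorem main15366
    (p : ℕ) [Fact p.Prime] (k : Type u) [Field k] [IsAlgClosed k] [CharP k p]
    (P : Ideal (MvPowerSeries (Fin 2) k))
    (hP : P = Ideal.span {(MvPowerSeries.X 0 : MvPowerSeries (Fin 2) k)}) [P.IsPrime] :
    ∃ (A : Type u) (_ : CommRing A) (_ : IsDomain A) (_ : IsDiscreteValuationRing A) (_ : Algebra k A)
      (φ : Localization.AtPrime P →ₐ[k] A),
      IsAdicComplete (IsLocalRing.maximalIdeal A) A ∧ IsAlgClosed (IsLocalRing.ResidueField A) ∧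
        Function.Injective φ ∧ IsLocalHom φ.toRingHom ∧
          Irreducible (φ (algebraMap (MvPowerSeries (Fin 2) k) (Localization.AtPrime P)
            (MvPowerSeries.X 0))) := by
  have hunit : ∀ y : P.primeCompl, IsUnit (ψ k (y : MvPowerSeries (Fin 2) k)) := by
    intro y
    rw [isUnit_ψ_iff, ← hP]
    exact y.2
  letI algA : Algebra k (PowerSeries (L k)) :=
    ((ψ k).comp (algebraMap k (MvPowerSeries (Fin 2) k))).toAlgebra
  let φ₀ : Localization.AtPrime P →+* PowerSeries (L k) := IsLocalization.lift hunit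
  have hφ₀ : ∀ x, φ₀ (algebraMap (MvPowerSeries (Fin 2) k) (Localization.AtPrime P) x) = ψ k x :=
    fun x => IsLocalization.lift_eq hunit x
  let φ : Localization.AtPrime P →ₐ[k] PowerSeries (L k) :=
    { φ₀ with
      commutes' := by
        intro a
        change φ₀ (algebraMap k (Localization.AtPrime P) a) = _
        rw [IsScalarTower.algebraMap_apply k (MvPowerSeries (Fin 2) k) (Localization.AtPrime P),
          hφ₀]
        rfl }
  have hφ : ∀ a, φ a = φ₀ a := fun a => rfl
  refine ⟨PowerSeries (L k), inferInstance, inferInstance, inferInstance, algA, φ, ?_, ?_, ?_, ?_, ?_⟩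
  · exact Groth.Agent.Helper8.mvPowerSeries_isAdicComplete_maximalIdeal Unit (L k)
  · exact IsAlgClosed.of_ringEquiv (L k) _ (PowerSeries.residueFieldOfPowerSeries (k := L k)).symm
  · have : Function.Injective φ₀ := by
      rw [IsLocalization.lift_injective_iff]
      intro x y
      rw [(IsLocalization.injective (Localization.AtPrime P)
        P.primeCompl_le_nonZeroDivisors).eq_iff, (ψ_injective k).eq_iff]
    exact this
  · constructor
    intro a ha
    change IsUnit (φ₀ a) at ha
    obtain ⟨x, s, rfl⟩ := IsLocalization.exists_mk'_eq P.primeCompl a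
    rw [IsLocalization.AtPrime.isUnit_mk'_iff (Localization.AtPrime P) P]
    have h1 : φ₀ (IsLocalization.mk' (Localization.AtPrime P) x s) * ψ k (s : MvPowerSeries (Fin 2) k)
        = ψ k x := by
      rw [← hφ₀, ← hφ₀, ← map_mul, IsLocalization.mk'_spec]
    have h2 : IsUnit (ψ k x) := by
      rw [← h1]
      exact ha.mul (hunit s)
    rw [isUnit_ψ_iff, ← hP] at h2
    exact h2
  · rw [hφ, hφ₀, ψ_X]
    exact PowerSeries.X_irreducible

end Groth.Agent.Helper2.PSDvr
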